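import Groth.Agent.WeilRecLib.NormValue
import Groth.Agent.FFLib.ASAdele
import Groth.Agent.FFLib.ASReduce
import Mathlib.FieldTheory.IsAlgClosed.Basic

/-!
# Weil reciprocity for function fields over an algebraically closed field
-/

set_option autoImplicit false

open WithZero Module Polynomial

noncomputable section

namespace WeilRecLib

open FunFld Groth.Agent.FFLib

variable {k : Type*} [Field k] [IsAlgClosed k]

omit [IsAlgClosed k] in
theorem v_lt_unique {K : Type*} [Field K] [Algebra k K] {P : Place k K} {y : K} {a b : k}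
    (ha : P.1 (y - algebraMap k K a) < 1) (hb : P.1 (y - algebraMap k K b) < 1) : a = b := by
  by_contra h
  have := P.1.map_sub_lt hb ha
  rw [sub_sub_sub_cancel_left, ← map_sub, v_const P (sub_ne_zero.2 h)] at this
  exact lt_irrefl _ this

omit [IsAlgClosed k] in
theorem ne_zero_of_v {K : Type*} [Field K] [Algebra k K] {P : Place k K} {y : K} {a : k} (hy : y ≠ 0)
    (h0 : P.ord y = 0) (ha : P.1 (y - algebraMap k K a) < 1) : a ≠ 0 := by
  rintro rfl
  rw [map_zero, sub_zero, (v_eq_one_iff P hy).2 h0] at ha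
  exact lt_irrefl _ ha

omit [IsAlgClosed k] in
theorem ord_eq_zero_of_v {K : Type*} [Field K] [Algebra k K] {P : Place k K} {y : K} {a : k} (hy : y ≠ 0)
    (ha0 : a ≠ 0) (ha : P.1 (y - algebraMap k K a) < 1) : P.ord y = 0 := by
  rw [← v_eq_one_iff P hy, show y = algebraMap k K a + (y - algebraMap k K a) by ring,
    Valuation.map_add_eq_of_lt_left, v_const P ha0]
  rwa [v_const P ha0]

local notation "ι" => algebraMap k[X] (RatFunc k)

omit [IsAlgClosed k] in
theorem v_sub_C_iff {P : Place k (RatFunc k)} {a : k} :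
    P.1 (ι (X - Polynomial.C a)) < 1 ↔ P.1 ((RatFunc.X : RatFunc k) - RatFunc.C a) < 1 := by
  rw [ratX_sub_C]

omit [IsAlgClosed k] in
theorem ord_poly_at {P : Place k (RatFunc k)} {a : k} (hP : P.1 (ι (X - Polynomial.C a)) < 1) {A : k[X]}
    (hA : A ≠ 0) : P.ord (ι A) = (A.rootMultiplicity a : ℤ) := by
  have hp := irreducible_X_sub_C a
  obtain ⟨q, hq, hndvd⟩ := exists_eq_pow_rootMultiplicity_mul_and_not_dvd A hA a
  have hq0 : q ≠ 0 := fun e => hndvd (e ▸ dvd_zero _)
  conv_lhs => rw [hq]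
  rw [map_mul, map_pow, ord_mul P (pow_ne_zero _ (iota_ne hp.ne_zero)) (iota_ne hq0), ord_pow,
    ord_irreducible hp hP, ord_eq_zero_of_not_dvd hp hP hndvd, mul_one, add_zero]

omit [IsAlgClosed k] in
theorem ord_div (P : Place k (RatFunc k)) {h : RatFunc k} (hh : h ≠ 0) :
    P.ord h = P.ord (ι h.num) - P.ord (ι h.denom) := by
  conv_lhs => rw [← h.num_div_denom]
  rw [div_eq_mul_inv, ord_mul P (iota_ne (RatFunc.num_ne_zero hh)) (inv_ne_zero (iota_ne h.denom_ne_zero)),
    ord_inv]
  ring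

omit [IsAlgClosed k] in
theorem sub_const_eq (h : RatFunc k) (u : k) :
    h - algebraMap k (RatFunc k) u = ι (h.num - Polynomial.C u * h.denom) / ι h.denom := by
  have e : h * ι h.denom = ι h.num := (eq_div_iff (iota_ne h.denom_ne_zero)).1 h.num_div_denom.symm
  rw [eq_div_iff (iota_ne h.denom_ne_zero), sub_mul, map_sub, map_mul, e, RatFunc.algebraMap_C,
    RatFunc.algebraMap_eq_C]

omit [IsAlgClosed k] in
theorem eval_of_value {P : Place k (RatFunc k)} {a u : k} (hP : P.1 (ι (X - Polynomial.C a)) < 1)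
    {h : RatFunc k} (hh : h ≠ 0) (hu : u ≠ 0) (hv : P.1 (h - algebraMap k (RatFunc k) u) < 1) :
    h.num.eval a = u * h.denom.eval a ∧ h.denom.eval a ≠ 0 ∧ h.num.eval a ≠ 0 := by
  have hp := irreducible_X_sub_C a
  have h0 := ord_eq_zero_of_v hh hu hv
  rw [ord_div P hh, ord_poly_at hP (RatFunc.num_ne_zero hh), ord_poly_at hP h.denom_ne_zero] at h0
  have hne : ¬ (h.num.eval a = 0 ∧ h.denom.eval a = 0) := fun ⟨h1, h2⟩ =>
    hp.not_isUnit ((RatFunc.isCoprime_num_denom h).isUnit_of_dvd' (dvd_iff_isRoot.2 h1) (dvd_iff_isRoot.2 h2))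
  have hn : h.num.rootMultiplicity a = h.denom.rootMultiplicity a := by omega
  have hd0 : h.denom.eval a ≠ 0 := by
    intro h2
    refine hne ⟨?_, h2⟩
    have := (rootMultiplicity_pos h.denom_ne_zero).2 h2
    exact (rootMultiplicity_pos (RatFunc.num_ne_zero hh)).1 (by omega)
  have hB : P.ord (ι h.denom) = 0 := by
    rw [ord_poly_at hP h.denom_ne_zero, rootMultiplicity_eq_zero hd0, Nat.cast_zero]
  have heq : h.num.eval a = u * h.denom.eval a := by
    by_contra hcon
    have hC : ¬ (X - Polynomial.C a) ∣ h.num - Polynomial.C u * h.denom := fun hd => hcon (by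
      have := dvd_iff_isRoot.1 hd
      rw [IsRoot, eval_sub, eval_mul, eval_C, sub_eq_zero] at this
      exact this)
    rw [sub_const_eq, map_div₀, (v_eq_one_iff P (iota_ne fun e : h.num - Polynomial.C u * h.denom = 0 => hC (e.symm ▸ dvd_zero _))).2
      (ord_eq_zero_of_not_dvd hp hP hC), (v_eq_one_iff P (iota_ne h.denom_ne_zero)).2 hB, div_one] at hv
    exact lt_irrefl _ hv
  exact ⟨heq, hd0, by rw [heq]; exact mul_ne_zero hu hd0⟩

omit [IsAlgClosed k] in
theorem leadingCoeff_of_value {P : Place k (RatFunc k)} (hP : P.ord (RatFunc.X : RatFunc k) < 0) {u : k}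
    {h : RatFunc k} (hh : h ≠ 0) (hu : u ≠ 0) (hv : P.1 (h - algebraMap k (RatFunc k) u) < 1) :
    h.num.natDegree = h.denom.natDegree ∧ h.num.leadingCoeff = u * h.denom.leadingCoeff := by
  have h0 := ord_eq_zero_of_v hh hu hv
  rw [ord_div P hh, ord_poly_inf' P hP (RatFunc.num_ne_zero hh), ord_poly_inf' P hP h.denom_ne_zero] at h0
  have hd : h.num.natDegree = h.denom.natDegree := by omega
  refine ⟨hd, ?_⟩
  by_contra hcon
  have hc : (h.num - Polynomial.C u * h.denom).coeff h.denom.natDegree ≠ 0 := by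
    rw [coeff_sub, coeff_C_mul, sub_ne_zero]
    conv_lhs => rw [← hd]
    exact hcon
  have hne : h.num - Polynomial.C u * h.denom ≠ 0 := fun e => hc (by rw [e, coeff_zero])
  have hdeg : (h.num - Polynomial.C u * h.denom).natDegree = h.denom.natDegree :=
    le_antisymm ((natDegree_sub_le _ _).trans (max_le hd.le (natDegree_C_mul_le _ _))) (le_natDegree_of_ne_zero hc)
  rw [sub_const_eq, v_lt_one_iff P (div_ne_zero (iota_ne hne) (iota_ne h.denom_ne_zero)), div_eq_mul_inv,
    ord_mul P (iota_ne hne) (inv_ne_zero (iota_ne h.denom_ne_zero)), ord_inv, ord_poly_inf' P hP hne,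
    ord_poly_inf' P hP h.denom_ne_zero, hdeg, add_neg_cancel] at hv
  exact lt_irrefl _ hv

omit [IsAlgClosed k] in
open Classical in
theorem prod_pow_rootMultiplicity {A : k[X]} {T : Finset k} (h : ∀ a ∈ A.roots, a ∈ T) :
    ∏ a ∈ T, a ^ A.rootMultiplicity a = A.roots.prod := by
  rw [Finset.prod_multiset_count, ← Finset.prod_subset (s₁ := A.roots.toFinset) (fun a ha => h a (Multiset.mem_toFinset.1 ha))
    fun a _ ha => by rw [← count_roots, Multiset.count_eq_zero_of_notMem (fun e => ha (Multiset.mem_toFinset.2 e)), pow_zero]]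
  exact Finset.prod_congr rfl fun a _ => by rw [count_roots]

omit [IsAlgClosed k] in
theorem prod_zpow {ι' : Type*} (s : Finset ι') (n : ι' → ℤ) {c : k} (hc : c ≠ 0) :
    ∏ i ∈ s, c ^ n i = c ^ ∑ i ∈ s, n i := by
  classical
  induction s using Finset.induction_on with
  | empty => simp
  | insert a s ha ih => rw [Finset.prod_insert ha, Finset.sum_insert ha, ih, zpow_add₀ hc]

variable {K : Type*} [Field K] [Algebra k K] (hK : IsFunctionField k K)

include hK in
/-- Weil reciprocity. -/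
theorem reciprocity (f g : K) (hf : f ≠ 0) (hg : g ≠ 0) (hdisj : ∀ Q : Place k K, Q.ord f = 0 ∨ Q.ord g = 0)
    (U W : Place k K → k) (hU : ∀ Q : Place k K, Q.ord f = 0 → Q.1 (f - algebraMap k K (U Q)) < 1)
    (hW : ∀ Q : Place k K, Q.ord g = 0 → Q.1 (g - algebraMap k K (W Q)) < 1)
    (S : Finset (Place k K)) (hSf : ∀ Q, Q.ord f ≠ 0 → Q ∈ S) (hSg : ∀ Q, Q.ord g ≠ 0 → Q ∈ S) :
    ∏ Q ∈ S, U Q ^ Q.ord g = ∏ Q ∈ S, W Q ^ Q.ord f := by
  classical
  by_cases hgc : g ∈ Set.range (algebraMap k K)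
  · obtain ⟨c, rfl⟩ := hgc
    have hc : c ≠ 0 := fun e => hg (by rw [e, map_zero])
    have hsum : ∑ Q ∈ S, Q.ord f = 0 := by
      have h := deg_div hK.1 f
      rw [Divisor.deg, Finsupp.sum_of_support_subset _ (s := S) (fun Q hQ => hSf Q (by
        rw [Finsupp.mem_support_iff, div_apply hK.1] at hQ; exact hQ)) _ (fun Q _ => zero_mul _)] at h
      rw [← h]
      exact Finset.sum_congr rfl fun Q _ => by rw [div_apply hK.1, deg_one hK.1 Q, Nat.cast_one, mul_one]
    have hWc : ∀ Q, W Q = c := fun Q => v_lt_unique (hW Q (ord_const Q c)) (by simp)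
    rw [Finset.prod_eq_one fun Q _ => by rw [ord_const, zpow_zero],
      Finset.prod_congr rfl fun Q _ => by rw [hWc Q], prod_zpow _ _ hc, hsum, zpow_zero]
  have htr : Transcendental k g := transcendental_of_notMem hK hgc
  let ψ : RatFunc k →ₐ[k] K := RatFunc.liftAlgHom (Polynomial.aeval g)
    (nonZeroDivisors_le_comap_nonZeroDivisors_of_injective _ (transcendental_iff_injective.1 htr))
  have hψX : ψ RatFunc.X = g := by
    rw [← RatFunc.algebraMap_X]
    show RatFunc.liftAlgHom _ _ _ = g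
    rw [RatFunc.liftAlgHom_apply, RatFunc.num_algebraMap, RatFunc.denom_algebraMap]
    simp
  letI : Algebra (RatFunc k) K := ψ.toRingHom.toAlgebra
  haveI : IsScalarTower k (RatFunc k) K := IsScalarTower.of_algebraMap_eq fun x => (ψ.commutes x).symm
  have hR : FG1 k (RatFunc k) := fg1_ratFunc
  haveI : FiniteDimensional (RatFunc k) K := by
    have hrange : ψ.fieldRange = IntermediateField.adjoin k ({g} : Set K) := by
      rw [AlgHom.fieldRange_eq_map, ← adjoin_ratX, IntermediateField.adjoin_map, Set.image_singleton, hψX]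
    haveI := finite_adjoin hK.1 htr
    refine Module.Finite.of_equiv_equiv
      (A₁ := IntermediateField.adjoin k ({g} : Set K)) (B₁ := K)
      (((IntermediateField.equivOfEq hrange.symm).trans (AlgEquiv.ofInjectiveField ψ).symm).toRingEquiv)
      (RingEquiv.refl K) ?_
    refine RingHom.ext fun x => ?_
    obtain ⟨r, hr⟩ : ∃ r, AlgEquiv.ofInjectiveField ψ r = IntermediateField.equivOfEq hrange.symm x :=
      (AlgEquiv.ofInjectiveField ψ).surjective _
    simp only [RingHom.coe_comp, Function.comp_apply, RingEquiv.toRingHom_eq_coe, RingEquiv.coe_toRingHom]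
    show ψ ((AlgEquiv.ofInjectiveField ψ).symm (IntermediateField.equivOfEq hrange.symm x)) = (x : K)
    rw [← hr, AlgEquiv.symm_apply_apply]
    exact congrArg Subtype.val hr
  have hgX : algebraMap (RatFunc k) K RatFunc.X = g := hψX
  have hga : ∀ a : k, algebraMap (RatFunc k) K (RatFunc.X - RatFunc.C a) = g - algebraMap k K a := fun a => by
    rw [map_sub, hgX, ← RatFunc.algebraMap_eq_C, ← IsScalarTower.algebraMap_apply]
  -- the places downstairs
  choose Pa hPa using fun a : k => exists_place_ratX (k := k) a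
  have hPa' : ∀ a, (Pa a).1 (ι (X - Polynomial.C a)) < 1 := fun a => v_sub_C_iff.2 (hPa a)
  obtain ⟨Pinf, hPinf⟩ := exists_pole_of_tr hR (transcendental_ratX (k := k))
  have hover : ∀ (a : k) (Q : Place k K), Q ∈ overs hR (Pa a) ↔ Q.1 (g - algebraMap k K a) < 1 := by
    intro a Q
    constructor
    · intro hQ
      obtain ⟨e, he⟩ := (mem_overs hR).1 hQ
      rw [← hga, isOverWith_lt_one_iff he]
      exact hPa a
    · intro hQ
      rw [← hga, isOverWith_lt_one_iff (isOverWith_under hR Q), ← v_sub_C_iff] at hQ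
      exact (mem_overs' hR).2 (place_eq_fin (irreducible_X_sub_C a) (hPa' a) hQ)
  have hoverinf : ∀ Q : Place k K, Q ∈ overs hR Pinf ↔ Q.ord g < 0 := by
    intro Q
    rw [mem_overs' hR, ← hgX, ord_algebraMap hR]
    constructor
    · rintro rfl
      exact mul_neg_of_pos_of_neg (by exact_mod_cast underIdx_pos hR Q) hPinf
    · intro h
      exact place_eq_inf hPinf (neg_of_mul_neg_right h (Int.natCast_nonneg _))
  have hfiber : ∀ Q : Place k K, Q ∈ overs hR (Pa 0) → (underIdx hR Q : ℤ) = Q.ord g := fun Q hQ => by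
    rw [← hgX, ord_algebraMap hR, (mem_overs' hR).1 hQ, ← sub_zero (RatFunc.X : RatFunc k),
      ← map_zero (RatFunc.C (K := k)), ord_at_ratX (hPa 0), mul_one]
  have hfiberinf : ∀ Q : Place k K, Q ∈ overs hR Pinf → -(underIdx hR Q : ℤ) = Q.ord g := fun Q hQ => by
    rw [← hgX, ord_algebraMap hR, (mem_overs' hR).1 hQ, (inf_ord_deg Pinf hPinf).1]
    ring
  have h0mem : ∀ Q : Place k K, Q ∈ overs hR (Pa 0) ↔ 0 < Q.ord g := fun Q => by
    rw [hover, map_zero, sub_zero, v_lt_one_iff Q hg]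
  -- the norm of `f`
  set h := Algebra.norm (RatFunc k) f with hdef
  have hh : h ≠ 0 := Algebra.norm_ne_zero_iff.2 hf
  have hUne : ∀ Q : Place k K, Q.ord g ≠ 0 → U Q ≠ 0 := fun Q hQ =>
    ne_zero_of_v hf ((hdisj Q).resolve_right hQ) (hU Q ((hdisj Q).resolve_right hQ))
  have hval : ∀ P : Place k (RatFunc k), (∀ Q ∈ overs (K' := K) hR P, Q.ord g ≠ 0) →
      (∏ Q ∈ overs (K' := K) hR P, U Q ^ underIdx hR Q) ≠ 0 ∧
      P.1 (h - algebraMap k (RatFunc k) (∏ Q ∈ overs (K' := K) hR P, U Q ^ underIdx hR Q)) < 1 := fun P hP =>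
    ⟨Finset.prod_ne_zero_iff.2 fun Q hQ => pow_ne_zero _ (hUne Q (hP Q hQ)),
      v_norm_sub hR P f U fun Q hQ => hU Q ((hdisj Q).resolve_right (hP Q hQ))⟩
  obtain ⟨hu0, hv0⟩ := hval (Pa 0) fun Q hQ => ((h0mem Q).1 hQ).ne'
  obtain ⟨hui, hvi⟩ := hval Pinf fun Q hQ => ((hoverinf Q).1 hQ).ne
  set u0 := ∏ Q ∈ overs (K' := K) hR (Pa 0), U Q ^ underIdx hR Q with hu0def
  set ui := ∏ Q ∈ overs (K' := K) hR Pinf, U Q ^ underIdx hR Q with huidef
  obtain ⟨he0, hB0, hA0⟩ := eval_of_value (hPa' 0) hh hu0 hv0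
  obtain ⟨hdeg, hlc⟩ := leadingCoeff_of_value hPinf hh hui hvi
  -- the left side
  have hL : ∏ Q ∈ S, U Q ^ Q.ord g = u0 / ui := by
    rw [← Finset.prod_filter_mul_prod_filter_not S (fun Q => 0 < Q.ord g), div_eq_mul_inv, hu0def, huidef,
      ← Finset.prod_inv_distrib]
    congr 1
    · refine (Finset.prod_congr (Finset.ext fun Q => ?_) fun Q hQ => ?_)
      · rw [Finset.mem_filter, h0mem]
        exact ⟨fun e => e.2, fun e => ⟨hSg Q e.ne', e⟩⟩
      · rw [← hfiber Q hQ, zpow_natCast]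
    · refine (Finset.prod_subset (fun Q hQ => ?_) fun Q hQ hne => ?_).symm.trans
        (Finset.prod_congr rfl fun Q hQ => ?_)
      · rw [hoverinf] at hQ
        exact Finset.mem_filter.2 ⟨hSg Q hQ.ne, not_lt.2 hQ.le⟩
      · rw [hoverinf, not_lt] at hne
        rw [le_antisymm (not_lt.1 (Finset.mem_filter.1 hQ).2) hne, zpow_zero]
      · rw [← hfiberinf Q hQ, zpow_neg, zpow_natCast]
  -- the right side
  set T := (S.filter fun Q => Q.ord f ≠ 0).image W ∪ (h.num.roots.toFinset ∪ h.denom.roots.toFinset) with hT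
  have hWne : ∀ Q : Place k K, Q.ord f ≠ 0 → W Q ≠ 0 := fun Q hQ =>
    ne_zero_of_v hg ((hdisj Q).resolve_left hQ) (hW Q ((hdisj Q).resolve_left hQ))
  have hT0 : ∀ a ∈ T, a ≠ 0 := by
    intro a ha
    rw [hT, Finset.mem_union, Finset.mem_union, Multiset.mem_toFinset, Multiset.mem_toFinset,
      Finset.mem_image] at ha
    rcases ha with ⟨Q, hQ, rfl⟩ | ha | ha
    · exact hWne Q (Finset.mem_filter.1 hQ).2
    · rintro rfl; exact hA0 ((mem_roots (RatFunc.num_ne_zero hh)).1 ha)
    · rintro rfl; exact hB0 ((mem_roots h.denom_ne_zero).1 ha)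
  have horder : ∀ a ∈ T, ∑ Q ∈ (S.filter fun Q => Q.ord f ≠ 0).filter (fun Q => W Q = a), Q.ord f =
      (h.num.rootMultiplicity a : ℤ) - h.denom.rootMultiplicity a := by
    intro a ha
    have hn := ord_norm hR (Pa a) f
    rw [deg_one hR, Nat.cast_one, one_mul, ord_div _ hh, ord_poly_at (hPa' a) (RatFunc.num_ne_zero hh),
      ord_poly_at (hPa' a) h.denom_ne_zero] at hn
    rw [hn]
    symm
    refine (Finset.sum_congr rfl fun Q _ => by rw [deg_one (fg1_ext hR) Q, Nat.cast_one, one_mul]).trans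
      (Finset.sum_subset (fun Q hQ => ?_) fun Q hQ hne => ?_).symm
    · simp only [Finset.mem_filter] at hQ
      rw [hover, ← hQ.2]
      exact hW Q ((hdisj Q).resolve_left hQ.1.2)
    · rw [hover] at hQ
      by_contra hQf
      simp only [Finset.mem_filter] at hne
      exact hne ⟨⟨hSf Q hQf, hQf⟩, v_lt_unique (hW Q ((hdisj Q).resolve_left hQf)) hQ⟩
  have hR' : ∏ Q ∈ S, W Q ^ Q.ord f = h.num.roots.prod / h.denom.roots.prod := by
    rw [← Finset.prod_filter_of_ne (p := fun Q => Q.ord f ≠ 0) fun Q _ hne e => hne (by rw [e, zpow_zero]),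
      ← Finset.prod_fiberwise_of_maps_to (t := T) (g := W) fun Q hQ =>
        Finset.mem_union_left _ (Finset.mem_image_of_mem W hQ),
      ← prod_pow_rootMultiplicity (A := h.num) (T := T) (fun a ha =>
        Finset.mem_union_right _ (Finset.mem_union_left _ (Multiset.mem_toFinset.2 ha))),
      ← prod_pow_rootMultiplicity (A := h.denom) (T := T) (fun a ha =>
        Finset.mem_union_right _ (Finset.mem_union_right _ (Multiset.mem_toFinset.2 ha))),
      ← Finset.prod_div_distrib]
    refine Finset.prod_congr rfl fun a ha => ?_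
    rw [Finset.prod_congr rfl fun Q hQ => by rw [(Finset.mem_filter.1 hQ).2],
      prod_zpow _ _ (hT0 a ha), horder a ha, zpow_sub₀ (hT0 a ha), zpow_natCast, zpow_natCast]
  rw [hL, hR']
  have hA := (IsAlgClosed.splits h.num).coeff_zero_eq_leadingCoeff_mul_prod_roots
  have hB := (IsAlgClosed.splits h.denom).coeff_zero_eq_leadingCoeff_mul_prod_roots
  rw [coeff_zero_eq_eval_zero] at hA hB
  rw [hA, hB, hdeg, hlc] at he0
  rw [hB] at hB0
  have hrB : h.denom.roots.prod ≠ 0 := right_ne_zero_of_mul hB0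
  have hlB : h.denom.leadingCoeff ≠ 0 := leadingCoeff_ne_zero.2 h.denom_ne_zero
  rw [div_eq_div_iff hui hrB]
  have hsg : ((-1 : k) ^ h.denom.natDegree) ≠ 0 := pow_ne_zero _ (neg_ne_zero.2 one_ne_zero)
  apply mul_left_cancel₀ (mul_ne_zero hsg hlB)
  linear_combination -he0

end WeilRecLib

end
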