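import Groth.Agent.WeilRecLib.Recip
import Groth.Agent.CurveDualLib.Ord
import Groth.Agent.LocSymLib.Symbol

/-!
# Rational points and places of a curve; Weil reciprocity for a curve
-/

set_option autoImplicit false
set_option linter.style.haveILetI false
set_option linter.unusedSectionVars false
universe v u

open CategoryTheory AlgebraicGeometry LocSym
open FunFld WithZero

noncomputable section

namespace WeilRecLib

variable {k : Type u} [Field k] {X : Scheme.{u}} [IsIntegral X] {c : X ⟶ Spec (CommRingCat.of k)}

/-- The function field as an algebra over the constants. -/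
@[reducible] def algC (c : X ⟶ Spec (CommRingCat.of k)) : Algebra k X.functionField := (constFun c).toAlgebra

variable [IsAlgClosed k] [IsProper c] [Smooth c] (hdim : topologicalKrullDim X = 1)

theorem algC_eq : algC c =
    (letI : X.Over (Spec (CommRingCat.of k)) := ⟨c⟩; CurveDualLib.algFF k X) :=
  Algebra.algebra_ext _ _ fun _ => rfl

include hdim in
theorem isFunctionField : letI := algC c; FunFld.IsFunctionField k X.functionField := by
  letI : X.Over (Spec (CommRingCat.of k)) := ⟨c⟩
  haveI : Smooth (X ↘ Spec (CommRingCat.of k)) := ‹Smooth c›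
  have := CurveDualLib.isFunctionField (k := k) (X := X) hdim
  rwa [← algC_eq (c := c)] at this

include hdim in
/-- The place of a rational point, with its order. -/
theorem exists_place (x : Pt c) : letI := algC c; ∃ P : Place k X.functionField,
    ∀ g : X.functionField, P.ord g = x.ord g := by
  letI : X.Over (Spec (CommRingCat.of k)) := ⟨c⟩
  haveI : Smooth (X ↘ Spec (CommRingCat.of k)) := ‹Smooth c›
  rw [algC_eq (c := c)]
  letI := CurveDualLib.algFF k X
  have hx := LocSymLib.isClosed_pt x
  refine ⟨CurveDualLib.ptPlace (k := k) hdim hx, fun g => ?_⟩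
  haveI := LocSymLib.dvr hdim x
  set P := CurveDualLib.ptPlace (k := k) hdim hx
  show P.ord g = CycAlg.ordFrac (X.presheaf.stalk x.pt) X.functionField g
  rcases eq_or_ne g 0 with rfl | hg
  · simp [FunFld.Place.ord, CycAlg.ordFrac]
  obtain ⟨a, b, hb, rfl⟩ := IsFractionRing.div_surjective (A := X.presheaf.stalk x.pt) g
  have ha : a ≠ 0 := fun h => hg (by rw [h, map_zero, zero_div])
  have hb0 := nonZeroDivisors.ne_zero hb
  have hai : algebraMap (X.presheaf.stalk x.pt) X.functionField a ≠ 0 :=
    (map_ne_zero_iff _ (IsFractionRing.injective _ _)).2 ha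
  have hbi : algebraMap (X.presheaf.stalk x.pt) X.functionField b ≠ 0 :=
    (map_ne_zero_iff _ (IsFractionRing.injective _ _)).2 hb0
  have e : ∀ r : X.presheaf.stalk x.pt, r ≠ 0 → P.ord (algebraMap (X.presheaf.stalk x.pt) X.functionField r) =
      CycAlg.ordFrac (X.presheaf.stalk x.pt) X.functionField (algebraMap (X.presheaf.stalk x.pt) X.functionField r) :=
    fun r hr => (CurveDualLib.ord_toFF (k := k) hdim hx hr).trans (TameLib.ordFrac_algebraMap hr).symm
  rw [div_eq_mul_inv, Groth.Agent.FFLib.ord_mul P hai (inv_ne_zero hbi), Groth.Agent.FFLib.ord_inv, e a ha, e b hb0,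
    TameLib.ordFrac_mul hai (inv_ne_zero hbi), TameLib.ordFrac_inv hbi]

variable (c) in
/-- The place of a rational point. -/
def pl (x : Pt c) : letI := algC c; Place k X.functionField :=
  letI := algC c; (exists_place hdim x).choose

theorem ord_pl (x : Pt c) (g : X.functionField) : letI := algC c; (pl c hdim x).ord g = x.ord g :=
  letI := algC c; (exists_place hdim x).choose_spec g

theorem pl_injective : Function.Injective (pl c hdim) := by
  letI := algC c
  classical
  intro x y h
  by_contra hne
  haveI := LocSymLib.dvr hdim x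
  obtain ⟨g, hg⟩ := LocSymLib.exists_approx hdim {x, y} (fun z => if z = x then 0 else 1) (fun _ => 1)
  have h1 := hg x (Finset.mem_insert_self _ _)
  have h2 := hg y (Finset.mem_insert_of_mem (Finset.mem_singleton_self _))
  rw [if_pos rfl, sub_zero] at h1
  rw [if_neg (Ne.symm hne)] at h2
  haveI := LocSymLib.dvr hdim y
  obtain ⟨hg0, hy⟩ := LocSymLib.ord_eq_of_le (R := X.presheaf.stalk y.pt) (K := X.functionField) one_ne_zero
    (h2.mono (by rw [TameLib.ordFrac_one]; simp))
  rw [TameLib.ordFrac_one] at hy
  have hx : 1 ≤ x.ord g := h1.resolve_left hg0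
  rw [← ord_pl hdim x g, h, ord_pl hdim y g] at hx
  have : y.ord g = 0 := hy
  omega

theorem pl_surjective : Function.Surjective (pl c hdim) := by
  letI := algC c
  intro P
  have hK := isFunctionField (c := c) hdim
  obtain ⟨f, m, hm, -, hpole⟩ := Groth.Agent.FFLib.exists_pole_single' hK.1 P
  by_contra hne
  push Not at hne
  obtain ⟨a, rfl⟩ := LocSymLib.exists_const (c := c) hdim (g := f) fun x => by
    rw [← ord_pl hdim x f]
    have h := congrArg (fun D : Divisor k X.functionField => D (pl c hdim x)) hpole
    simp only [Finsupp.single_eq_of_ne (hne x)] at h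
    rw [Groth.Agent.FFLib.pole_apply hK.1] at h
    omega
  have h := congrArg (fun D : Divisor k X.functionField => D P) hpole
  simp only [Finsupp.single_eq_same] at h
  rw [Groth.Agent.FFLib.pole_apply hK.1, show (constFun c) a = algebraMap k X.functionField a from rfl,
    Groth.Agent.FFLib.ord_const] at h
  omega

theorem hasValueAt_iff (x : Pt c) (g : X.functionField) (a : k) :
    LocSym.HasValueAt x g a ↔ (letI := algC c; (pl c hdim x).1 (g - algebraMap k X.functionField a) < 1) := by
  letI := algC c
  show g = constFun c a ∨ 0 < x.ord (g - constFun c a) ↔ (pl c hdim x).1 (g - constFun c a) < 1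
  rcases eq_or_ne (g - constFun c a) 0 with h0 | h0
  · rw [h0, map_zero]
    exact iff_of_true (Or.inl (sub_eq_zero.1 h0)) zero_lt_one
  · rw [Groth.Agent.FFLib.v_lt_one_iff _ h0, ord_pl hdim]
    exact or_iff_right fun e => h0 (sub_eq_zero.2 e)

include hdim in
/-- Weil reciprocity on a curve. -/
theorem weil (f g : X.functionField) (hf : f ≠ 0) (hg : g ≠ 0)
    (hdisj : ∀ x : Pt c, x.ord f = 0 ∨ x.ord g = 0) (vf vg : Pt c → kˣ)
    (hvf : ∀ x : Pt c, x.ord f = 0 → HasValueAt x f (vf x : k))
    (hvg : ∀ x : Pt c, x.ord g = 0 → HasValueAt x g (vg x : k)) :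
    ∏ᶠ x : Pt c, vf x ^ x.ord g = ∏ᶠ x : Pt c, vg x ^ x.ord f := by
  classical
  letI := algC c
  let e : Pt c ≃ Place k X.functionField := Equiv.ofBijective _ ⟨pl_injective hdim, pl_surjective hdim⟩
  let S := (LocSymLib.finite_ord_ne (c := c) hdim hf).toFinset ∪ (LocSymLib.finite_ord_ne (c := c) hdim hg).toFinset
  have hS : ∀ x : Pt c, x ∉ S → x.ord f = 0 ∧ x.ord g = 0 := fun x hx => by
    simp only [S, Finset.mem_union, Set.Finite.mem_toFinset, Set.mem_setOf_eq, not_or, not_not] at hx
    exact hx
  rw [finprod_eq_prod_of_mulSupport_subset (s := S) _ (fun x hx => by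
      by_contra h; exact hx (by simp only [(hS x h).2, zpow_zero])),
    finprod_eq_prod_of_mulSupport_subset (s := S) _ (fun x hx => by
      by_contra h; exact hx (by simp only [(hS x h).1, zpow_zero]))]
  have he : ∀ (P : Place k X.functionField) (y : X.functionField), P.ord y = (e.symm P).ord y := fun P y => by
    conv_lhs => rw [← e.apply_symm_apply P]
    exact ord_pl hdim _ y
  have hv : ∀ (P : Place k X.functionField) (y : X.functionField) (a : k), HasValueAt (e.symm P) y a →
      P.1 (y - algebraMap k X.functionField a) < 1 := fun P y a h => by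
    have := (hasValueAt_iff hdim (e.symm P) y a).1 h
    rwa [show pl c hdim (e.symm P) = P from e.apply_symm_apply P] at this
  have key := reciprocity (isFunctionField (c := c) hdim) f g hf hg (fun P => by rw [he P f, he P g]; exact hdisj _)
    (fun P => (vf (e.symm P) : k)) (fun P => (vg (e.symm P) : k))
    (fun P h => hv P f _ (hvf _ (he P f ▸ h))) (fun P h => hv P g _ (hvg _ (he P g ▸ h)))
    (S.map e.toEmbedding)
    (fun P h => Finset.mem_map_equiv.2 (by_contra fun hn => h ((he P f).trans (hS _ hn).1)))
    (fun P h => Finset.mem_map_equiv.2 (by_contra fun hn => h ((he P g).trans (hS _ hn).2)))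
  simp only [Finset.prod_map, Equiv.coe_toEmbedding, Equiv.symm_apply_apply, he] at key
  refine Units.ext ?_
  simp only [Units.coe_prod, Units.val_zpow_eq_zpow_val]
  exact key

end WeilRecLib

end
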