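import Groth.Agent.FFLib.ExtNorm
import Mathlib.FieldTheory.IsAlgClosed.Basic
import Mathlib.LinearAlgebra.Matrix.Block

/-!
# The value of a norm at a place, over an algebraically closed field
-/

set_option autoImplicit false

open WithZero Module

noncomputable section

namespace WeilRecLib

open FunFld Groth.Agent.FFLib

variable {k K K' : Type*} [Field k] [IsAlgClosed k] [Field K] [Field K'] [Algebra k K] [Algebra K K']
  [Algebra k K'] [IsScalarTower k K K'] [FiniteDimensional K K'] (hK : FG1 k K)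

include hK in
omit [IsAlgClosed k] in
theorem v_algebraMap_le {P : Place k K} {Q : Place k K'} (hQ : Q ∈ overs hK P) {c : K} (hc : P.1 c < 1) :
    Q.1 (algebraMap K K' c) ≤ exp (-(underIdx hK Q : ℤ)) := by
  rcases eq_or_ne c 0 with rfl | h0
  · simp
  rw [v_le_exp_iff Q ((map_ne_zero (algebraMap K K')).2 h0), ord_algebraMap hK, (mem_overs' hK).1 hQ]
  have := (v_lt_one_iff P h0).1 hc
  nlinarith

include hK in
omit [IsAlgClosed k] in
theorem v_algebraMap_le_one {P : Place k K} {Q : Place k K'} (hQ : Q ∈ overs hK P) {c : K} (hc : P.1 c ≤ 1) :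
    Q.1 (algebraMap K K' c) ≤ 1 := by
  obtain ⟨e, he⟩ := (mem_overs hK).1 hQ
  exact (isOverWith_le_one_iff he c).2 hc

include hK in
omit [IsAlgClosed k] in
theorem v_algebraMap_eq_one {P : Place k K} {Q : Place k K'} (hQ : Q ∈ overs hK P) {c : K} (hc : P.1 c = 1) :
    Q.1 (algebraMap K K' c) = 1 := by
  obtain ⟨e, he⟩ := (mem_overs hK).1 hQ
  rw [he c, hc, one_pow]

omit [Algebra K K'] [Algebra k K'] [IsScalarTower k K K'] [FiniteDimensional K K'] [Field K'] in
theorem deg_one {L : Type*} [Field L] [Algebra k L] (hL : FG1 k L) (P : Place k L) : P.deg = 1 := by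
  have := finiteDimensional_residue hL P
  have : @Module.Finite k (IsLocalRing.ResidueField P.O) _ _ Algebra.toModule := this
  have hint : Algebra.IsIntegral k (IsLocalRing.ResidueField P.O) := Algebra.IsIntegral.of_finite _ _
  have hb := IsAlgClosed.algebraMap_bijective_of_isIntegral (k := k) (K := IsLocalRing.ResidueField P.O)
  show finrank k _ = 1
  exact (finrank_eq_one_iff_of_nonzero' (1 : IsLocalRing.ResidueField P.O) one_ne_zero).2 fun w => by
    obtain ⟨c, rfl⟩ := hb.2 w
    exact ⟨c, (Algebra.smul_def c (1 : IsLocalRing.ResidueField P.O)).trans (mul_one _)⟩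

variable (P : Place k K)

/-- The indices of the adapted basis. -/
abbrev Idx : Type _ := Σ Q : {Q : Place k K' // Q ∈ overs hK P}, Fin (underIdx hK Q.1)

include hK in
omit [IsAlgClosed k] in
open Classical in
theorem exists_vec (j : Idx (K' := K') hK P) :
    ∃ y : K', (j.1.1).1 y = exp (-((j.2 : ℕ) : ℤ)) ∧
      ∀ R ∈ overs hK P, R ≠ j.1.1 → R.1 y ≤ exp (-(underIdx hK R : ℤ)) := by
  obtain ⟨t, ht⟩ := j.1.1.2.2 (exp (-((j.2 : ℕ) : ℤ)))
  obtain ⟨y, hy⟩ := weak_approx (overs hK P) (fun R => if R = j.1.1 then t else 0) (fun R => (underIdx hK R : ℤ))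
  refine ⟨y, ?_, fun R hR hne => ?_⟩
  · have := hy j.1.1 j.1.2
    rw [if_pos rfl] at this
    rw [show y = t + (y - t) by ring, (j.1.1).1.map_add_eq_of_lt_left, ht]
    rw [ht]
    exact this.trans_lt (exp_lt_exp.2 (by have := j.2.2; omega))
  · have := hy R hR
    rwa [if_neg hne, sub_zero] at this

/-- The adapted basis. -/
def vec (j : Idx (K' := K') hK P) : K' := (exists_vec hK P j).choose

omit [IsAlgClosed k] in
theorem v_vec_self (j : Idx (K' := K') hK P) : (j.1.1).1 (vec hK P j) = exp (-((j.2 : ℕ) : ℤ)) :=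
  (exists_vec hK P j).choose_spec.1

omit [IsAlgClosed k] in
theorem v_vec_ne (j : Idx (K' := K') hK P) {R : Place k K'} (hR : R ∈ overs hK P) (h : R ≠ j.1.1) :
    R.1 (vec hK P j) ≤ exp (-(underIdx hK R : ℤ)) :=
  (exists_vec hK P j).choose_spec.2 R hR h

omit [IsAlgClosed k] in
theorem inR_vec (j : Idx (K' := K') hK P) : InR P (vec hK P j) := fun R hR => by
  have hR' := (mem_overs hK).2 hR
  refine le_of_le_of_eq ?_ exp_zero
  by_cases h : R = j.1.1
  · subst h
    exact (v_vec_self hK P j).trans_le (exp_le_exp.2 (by omega))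
  · exact (v_vec_ne hK P j hR' h).trans (exp_le_exp.2 (by omega))

omit [IsAlgClosed k] in
open Classical in
/-- Low coordinates vanish at an element of high order. -/
theorem low (d : Idx (K' := K') hK P → K) (hd : ∀ i, P.1 (d i) ≤ 1) (Q : {Q : Place k K' // Q ∈ overs hK P})
    (g : ℕ) (hg : g ≤ underIdx hK Q.1) (hz : Q.1.1 (∑ i, d i • vec hK P i) ≤ exp (-(g : ℤ)))
    (i : Fin (underIdx hK Q.1)) (hi : (i : ℕ) < g) : P.1 (d ⟨Q, i⟩) < 1 := by
  obtain ⟨m, hm⟩ : ∃ m : ℕ, m = (i : ℕ) := ⟨_, rfl⟩
  induction m using Nat.strong_induction_on generalizing i with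
  | _ m ih =>
    by_contra hlt
    have h1 : P.1 (d ⟨Q, i⟩) = 1 := le_antisymm (hd _) (not_lt.1 hlt)
    have hmain : Q.1.1 (d ⟨Q, i⟩ • vec hK P ⟨Q, i⟩) = exp (-((i : ℕ) : ℤ)) := by
      rw [Algebra.smul_def, map_mul, v_algebraMap_eq_one hK Q.2 h1, one_mul]
      exact v_vec_self hK P ⟨Q, i⟩
    have hsum := v_sum_eq Q.1.1 (f := fun j => d j • vec hK P j) (Finset.mem_univ (⟨Q, i⟩ : Idx (K' := K') hK P))
      fun j _ hj => by
        rw [hmain, Algebra.smul_def, map_mul]
        obtain ⟨R, l⟩ := j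
        by_cases hRQ : R = Q
        · subst hRQ
          rcases lt_trichotomy (l : ℕ) (i : ℕ) with h | h | h
          · have h2 := v_algebraMap_le hK R.2 (ih l (hm ▸ h) l (by omega) rfl)
            refine (mul_le_mul' h2 ((inR_vec hK P ⟨R, l⟩) R.1 ((mem_overs hK).1 R.2))).trans_lt ?_
            rw [mul_one, exp_lt_exp]
            have := i.2
            omega
          · exact absurd (by rw [Fin.ext h]) hj
          · refine (mul_le_mul' (v_algebraMap_le_one hK R.2 (hd _)) le_rfl).trans_lt ?_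
            rw [one_mul, show (R.1).1 (vec hK P ⟨R, l⟩) = _ from v_vec_self hK P ⟨R, l⟩, exp_lt_exp]
            show -((l : ℕ) : ℤ) < _
            omega
        · refine (mul_le_mul' (v_algebraMap_le_one hK Q.2 (hd _))
            (v_vec_ne hK P ⟨R, l⟩ Q.2 fun e => hRQ (Subtype.ext e.symm))).trans_lt ?_
          rw [one_mul, exp_lt_exp]
          have := i.2
          omega
    rw [hsum, hmain, exp_le_exp] at hz
    omega

omit [IsAlgClosed k] in
theorem coord_le {c : Idx (K' := K') hK P → K} (h : InR P (∑ i, c i • vec hK P i)) (i : Idx (K' := K') hK P) :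
    P.1 (c i) ≤ 1 := by
  classical
  by_contra hi
  obtain ⟨m, -, hmax⟩ := Finset.univ.exists_max_image (fun i => P.1 (c i)) ⟨i, Finset.mem_univ i⟩
  have hm : 1 < P.1 (c m) := (not_le.1 hi).trans_le (hmax i (Finset.mem_univ i))
  have hm0 : c m ≠ 0 := fun e => by rw [e, map_zero] at hm; exact not_lt_zero hm
  have hs : P.1 (c m)⁻¹ < 1 := by rw [map_inv₀]; exact inv_lt_one_of_one_lt₀ hm
  have hd : ∀ j, P.1 ((c m)⁻¹ * c j) ≤ 1 := fun j => by
    rw [map_mul, map_inv₀, inv_mul_le_iff₀ (zero_lt_one.trans hm), mul_one]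
    exact hmax j (Finset.mem_univ j)
  have hT : InT P (∑ j, ((c m)⁻¹ * c j) • vec hK P j) := by
    rw [Finset.sum_congr rfl fun j _ => mul_smul (c m)⁻¹ (c j) (vec hK P j), ← Finset.smul_sum]
    exact inT_smul_of_lt hs h
  have := low hK P _ hd m.1 _ le_rfl ((inT_iff hK).1 hT m.1.1 m.1.2) m.2 m.2.2
  rw [show (⟨m.1, m.2⟩ : Idx (K' := K') hK P) = m from rfl, inv_mul_cancel₀ hm0, map_one] at this
  exact lt_irrefl _ this

omit [IsAlgClosed k] in
theorem linearIndependent_vec : LinearIndependent K (vec (K' := K') hK P) := by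
  classical
  refine Fintype.linearIndependent_iff.2 fun g hg i => ?_
  by_contra hne
  obtain ⟨a, ha⟩ : ∃ a : K, 1 < P.1 a := ⟨(tP P)⁻¹, by rw [one_lt_v_iff, ord_inv, ord_tP]; omega⟩
  have h := coord_le hK P (c := fun l => a * (g i)⁻¹ * g l) (by
    rw [Finset.sum_congr rfl fun l _ => mul_smul (a * (g i)⁻¹) (g l) (vec hK P l), ← Finset.smul_sum, hg,
      smul_zero]
    exact inR_zero P) i
  rw [mul_assoc, inv_mul_cancel₀ hne, mul_one] at h
  exact absurd h (not_le.2 ha)

theorem card_idx : Fintype.card (Idx (K' := K') hK P) = finrank K K' := by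
  classical
  have h := sum_idx_deg_overs (K' := K') hK P
  rw [deg_one hK P, mul_one] at h
  rw [Fintype.card_sigma, ← h]
  simp only [Fintype.card_fin, Finset.sum_coe_sort (overs hK P) (fun Q => underIdx hK Q)]
  exact Finset.sum_congr rfl fun Q _ => by rw [deg_one (fg1_ext hK) Q, mul_one]

set_option maxHeartbeats 1600000 in
theorem v_norm_sub (f : K') (a : Place k K' → k)
    (hf : ∀ Q ∈ overs hK P, Q.1 (f - algebraMap k K' (a Q)) < 1) :
    P.1 (Algebra.norm K f - algebraMap k K (∏ Q ∈ overs hK P, a Q ^ underIdx hK Q)) < 1 := by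
  classical
  set S := overs (K' := K') hK P with hS
  let ι := Idx (K' := K') hK P
  rcases isEmpty_or_nonempty ι with he | hne
  · have := card_idx (K' := K') hK P
    rw [Fintype.card_eq_zero] at this
    exact absurd this.symm (finrank_pos (R := K) (M := K')).ne'
  let key : ι → ℕ ×ₗ Fin (Fintype.card {Q // Q ∈ S}) := fun i =>
    toLex ((i.2 : ℕ), Fintype.equivFin {Q // Q ∈ S} i.1)
  have hkey : Function.Injective key := by
    rintro ⟨Q, i⟩ ⟨R, j⟩ h
    obtain ⟨h1, h2⟩ := Prod.ext_iff.1 (toLex.injective h)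
    obtain rfl := (Fintype.equivFin {Q // Q ∈ S}).injective h2
    obtain rfl := Fin.ext h1
    rfl
  letI : LinearOrder ι := LinearOrder.lift' key hkey
  letI : LT ι := (LinearOrder.lift' key hkey).toLT
  let B : Basis ι K K' := basisOfLinearIndependentOfCardEqFinrank (linearIndependent_vec hK P) (card_idx hK P)
  have hB : ∀ i, B i = vec hK P i := fun i =>
    congrFun (coe_basisOfLinearIndependentOfCardEqFinrank (linearIndependent_vec hK P) (card_idx hK P)) i
  have hfR : InR P f := fun R hR => by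
    have h := (R.1.map_add _ _).trans (max_le (hf R ((mem_overs hK).2 hR)).le (R.2.1 (a R)))
    rwa [sub_add_cancel] at h
  set M := Algebra.leftMulMatrix B f with hM
  have hcol : ∀ j, ∑ i, M i j • vec hK P i = f * vec hK P j := fun j => by
    rw [← hB j]
    conv_rhs => rw [← B.sum_repr (f * B j)]
    exact Finset.sum_congr rfl fun i _ => by rw [hB i, hM, Algebra.leftMulMatrix_eq_repr_mul]
  have hint : ∀ i j, P.1 (M i j) ≤ 1 := fun i j =>
    coord_le hK P (c := fun i => M i j) (by rw [hcol]; exact inR_mul hfR (inR_vec hK P j)) i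
  -- the entries minus the diagonal
  let d : ι → ι → K := fun i j => M i j - if i = j then algebraMap k K (a j.1.1) else 0
  have hd : ∀ i j, P.1 (d i j) ≤ 1 := fun i j => (P.1.map_sub _ _).trans (max_le (hint i j) (by
    split_ifs
    · exact P.2.1 _
    · simp))
  have hdsum : ∀ j, ∑ i, d i j • vec hK P i = (f - algebraMap k K' (a j.1.1)) * vec hK P j := fun j => by
    simp only [d, sub_smul, Finset.sum_sub_distrib, hcol, ite_smul, zero_smul]
    rw [Finset.sum_ite_eq', if_pos (Finset.mem_univ j), sub_mul, Algebra.smul_def,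
      ← IsScalarTower.algebraMap_apply]
  have hsmall : ∀ i j : ι, key i ≤ key j → P.1 (d i j) < 1 := by
    intro i j hij
    obtain ⟨R, l⟩ := i
    have hl : (l : ℕ) ≤ (j.2 : ℕ) := by
      rcases Prod.Lex.le_iff.1 hij with h | ⟨h, -⟩
      · exact le_of_lt h
      · exact le_of_eq h
    by_cases hR : R.1 = j.1.1
    · refine low hK P _ (fun i => hd i j) R ((j.2 : ℕ) + 1) ?_ ?_ l (Nat.lt_succ_of_le hl)
      · rw [hR]; exact j.2.2
      · rw [hdsum, hR, map_mul, v_vec_self]
        have h1 := hf j.1.1 j.1.2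
        rcases eq_or_ne (f - algebraMap k K' (a j.1.1)) 0 with h0 | h0
        · rw [h0]; simp
        rw [v_eq _ h0, ← exp_add, exp_le_exp]
        have := (v_lt_one_iff _ h0).1 h1
        push_cast
        omega
    · refine low hK P _ (fun i => hd i j) R _ le_rfl ?_ l l.2
      rw [hdsum, map_mul]
      refine (mul_le_mul' ?_ (v_vec_ne hK P j R.2 hR)).trans_eq (one_mul _)
      exact (R.1.1.map_sub _ _).trans (max_le (hfR R.1 ((mem_overs hK).1 R.2)) (R.1.2.1 _))
  -- reduce modulo `P`
  let MO : Matrix ι ι P.O := Matrix.of fun i j => ⟨M i j, hint i j⟩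
  let res := IsLocalRing.residue P.O
  have hzero : ∀ i j : ι, key i ≤ key j →
      res (MO i j) = if i = j then res (algebraMap k P.O (a j.1.1)) else 0 := fun i j hij => by
    have h : res (MO i j - if i = j then algebraMap k P.O (a j.1.1) else 0) = 0 := by
      refine (residue_eq_zero_iff_lt P _).2 ?_
      refine lt_of_eq_of_lt (congrArg P.1 ?_) (hsmall i j hij)
      split_ifs with h
      · subst h; simp [MO, d, coe_algebraMap_O]
      · simp [MO, d, h]
    rw [map_sub, sub_eq_zero] at h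
    rw [h, apply_ite res, map_zero]
  have htri : (MO.map res).IsLowerTriangular := fun i j hij => by
    have hlt : key i < key j := hij
    rw [Matrix.map_apply, hzero i j hlt.le, if_neg fun h => hlt.ne (congrArg key h)]
  have hdet : res MO.det = res (algebraMap k P.O (∏ Q ∈ S, a Q ^ underIdx hK Q)) := by
    rw [RingHom.map_det, RingHom.mapMatrix_apply, Matrix.det_of_isLowerTriangular _ htri,
      show (∏ Q ∈ S, a Q ^ underIdx hK Q) = ∏ i : ι, a i.1.1 by
        rw [Fintype.prod_sigma, ← Finset.prod_coe_sort S]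
        exact Finset.prod_congr rfl fun Q _ => (by simp : a Q.1 ^ underIdx hK Q.1 = ∏ _y : Fin (underIdx hK Q.1), a Q.1),
      map_prod, map_prod]
    exact Finset.prod_congr rfl fun i _ => by rw [Matrix.map_apply, hzero i i le_rfl, if_pos rfl]
  rw [← sub_eq_zero, ← map_sub] at hdet
  have := (residue_eq_zero_iff_lt P _).1 hdet
  refine lt_of_eq_of_lt (congrArg P.1 ?_) this
  rw [AddSubgroupClass.coe_sub, coe_algebraMap_O, Algebra.norm_eq_matrix_det B]
  congr 1
  exact (RingHom.map_det P.O.subtype MO).symm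

end WeilRecLib

end
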